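import Mathlib
import Cfsg.Agent.H39.FullyRamified
import Cfsg.Agent.H39.AbelianBound

/-!
# Solvable groups inside central quotients of fully ramified groups

A Heisenberg wreath step: from a group with a pairing into roots of unity for a normal subgroup
of prime index, build one for the whole group.
-/

set_option autoImplicit false

namespace Cfsg.Agent.H19.Embed

universe u

/-- The Heisenberg group modulo `p`, as triples. -/
@[ext]
structure Heis (p : ℕ) : Type u where
  a : ZMod p
  b : ZMod p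
  c : ZMod p

namespace Heis

variable {p : ℕ}

instance : Mul (Heis.{u} p) := ⟨fun x y => ⟨x.a + y.a, x.b + y.b, x.c + y.c + x.a * y.b⟩⟩
instance : One (Heis.{u} p) := ⟨⟨0, 0, 0⟩⟩
instance : Inv (Heis.{u} p) := ⟨fun x => ⟨-x.a, -x.b, -x.c + x.a * x.b⟩⟩

@[simp] lemma mul_a (x y : Heis.{u} p) : (x * y).a = x.a + y.a := rfl
@[simp] lemma mul_b (x y : Heis.{u} p) : (x * y).b = x.b + y.b := rfl
@[simp] lemma mul_c (x y : Heis.{u} p) : (x * y).c = x.c + y.c + x.a * y.b := rfl
@[simp] lemma one_a : (1 : Heis.{u} p).a = 0 := rfl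
@[simp] lemma one_b : (1 : Heis.{u} p).b = 0 := rfl
@[simp] lemma one_c : (1 : Heis.{u} p).c = 0 := rfl
@[simp] lemma inv_a (x : Heis.{u} p) : x⁻¹.a = -x.a := rfl
@[simp] lemma inv_b (x : Heis.{u} p) : x⁻¹.b = -x.b := rfl
@[simp] lemma inv_c (x : Heis.{u} p) : x⁻¹.c = -x.c + x.a * x.b := rfl

instance : Group (Heis.{u} p) where
  mul_assoc x y z := by ext <;> simp <;> ring
  one_mul x := by ext <;> simp
  mul_one x := by ext <;> simp
  inv_mul_cancel x := by ext <;> simp

/-- The underlying triple. -/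
def equivTriple : Heis.{u} p ≃ ZMod p × ZMod p × ZMod p where
  toFun x := (x.a, x.b, x.c)
  invFun t := ⟨t.1, t.2.1, t.2.2⟩
  left_inv _ := rfl
  right_inv _ := rfl

instance [NeZero p] : Finite (Heis.{u} p) := Finite.of_equiv _ equivTriple.symm

lemma card [NeZero p] : Nat.card (Heis.{u} p) = p ^ 3 := by
  rw [Nat.card_congr equivTriple, Nat.card_prod, Nat.card_prod, Nat.card_zmod]
  ring

end Heis

section

variable {T : Type u} [Group T] {p : ℕ}

/-- `Heis p` shifts the coordinates of `ZMod p → T` through its first entry. -/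
def shift : Heis.{u} p →* MulAut (ZMod p → T) where
  toFun x :=
    { toFun := fun f i => f (i - x.a)
      invFun := fun f i => f (i + x.a)
      left_inv := fun f => funext fun i => by simp
      right_inv := fun f => funext fun i => by simp
      map_mul' := fun f g => rfl }
  map_one' := MulEquiv.ext fun f => funext fun i => by simp
  map_mul' x y := MulEquiv.ext fun f => funext fun i => by
    show f (i - (x.a + y.a)) = f (i - x.a - y.a)
    rw [sub_sub]

@[simp] lemma shift_apply (x : Heis.{u} p) (f : ZMod p → T) (i : ZMod p) :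
    shift x f i = f (i - x.a) := rfl

@[simp] lemma shift_symm_apply (x : Heis.{u} p) (f : ZMod p → T) (i : ZMod p) :
    (shift x).symm f i = f (i + x.a) := rfl

/-- The big group of one step. -/
abbrev Big (T : Type u) [Group T] (p : ℕ) : Type u :=
  (ZMod p → T) ⋊[(shift : Heis.{u} p →* MulAut (ZMod p → T))] Heis.{u} p

end

/-- A normal subgroup `A` of a finite group `T` with a `T`-invariant map `Ψ` into roots of unity
which pairs non-trivially with everything outside `A`, all related to `G` via an embedding into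
`T / A`. -/
structure Good (G : Type u) [Group G] (T : Type u) [Group T] (A : Subgroup T) [A.Normal]
    (Ψ : A →* ℂˣ) : Prop where
  fin : Finite T
  inv : ∀ (x : T) (a : A) (h : x * (a : T) * x⁻¹ ∈ A), Ψ ⟨_, h⟩ = Ψ a
  pair : ∀ g : T, g ∉ A → ∃ (x : T) (h : x * g * x⁻¹ * g⁻¹ ∈ A), Ψ ⟨_, h⟩ ≠ 1
  primes : ∀ q : ℕ, q.Prime → q ∣ Nat.card T → q ∣ Nat.card G
  expo : ∃ m : ℕ, Squarefree m ∧ ∀ a : A, Ψ a ^ m = 1
  surj : ∀ q : ℕ, q.Prime → q ∣ Nat.card G → ∃ a : A, orderOf (Ψ a) = q
  emb : ∃ f : G →* T ⧸ A, Function.Injective f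

/-- Some good data exist. -/
def HasGood (G : Type u) [Group G] : Prop :=
  ∃ (T : Type u) (_ : Group T) (A : Subgroup T) (_ : A.Normal) (Ψ : A →* ℂˣ), Good G T A Ψ

lemma hasGood_of_subsingleton {G : Type u} [Group G] [Subsingleton G] : HasGood G := by
  refine ⟨PUnit, inferInstance, ⊤, inferInstance, 1, ⟨inferInstance, fun _ _ _ => rfl,
    fun g hg => absurd (Subgroup.mem_top g) hg, fun q hq h => ?_, ⟨1, squarefree_one, fun a => by simp⟩,
    fun q hq h => ?_, ⟨1, fun a b _ => Subsingleton.elim a b⟩⟩⟩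
  · rw [Nat.card_unique] at h
    exact absurd (Nat.dvd_one.1 h) hq.ne_one
  · rw [Nat.card_unique] at h
    exact absurd (Nat.dvd_one.1 h) hq.ne_one

/-- The wreath step. -/
theorem hasGood_step {G : Type u} [Group G] [Finite G] {p : ℕ} [hp : Fact p.Prime]
    (q : G →* Multiplicative (ZMod p)) (hq : Function.Surjective q) (hN : HasGood q.ker) :
    HasGood G := by
  classical
  obtain ⟨T, _, A, _, Ψ, hG⟩ := hN
  have := hG.fin
  obtain ⟨ζ, hζ⟩ : ∃ ζ : ℂˣ, IsPrimitiveRoot ζ p := by
    have h := Complex.isPrimitiveRoot_exp p hp.out.ne_zero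
    exact ⟨(h.isUnit hp.out.ne_zero).unit, IsPrimitiveRoot.coe_units_iff.1 (by simpa using h)⟩
  let A' : Subgroup (Big T p) :=
    { carrier := {t | t.right.a = 0 ∧ t.right.b = 0 ∧ ∀ i, t.left i ∈ A}
      one_mem' := ⟨rfl, rfl, fun _ => A.one_mem⟩
      mul_mem' := fun {s t} hs ht => ⟨by simp [hs.1, ht.1], by simp [hs.2.1, ht.2.1], fun i => by
        simp only [SemidirectProduct.mul_left, Pi.mul_apply, shift_apply]
        exact A.mul_mem (hs.2.2 i) (ht.2.2 _)⟩
      inv_mem' := fun {t} ht => ⟨by simp [ht.1], by simp [ht.2.1], fun i => by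
        simp only [SemidirectProduct.inv_left, shift_apply, Pi.inv_apply]
        exact A.inv_mem (ht.2.2 _)⟩ }
  have hconj : ∀ (x : Big T p) (t : Big T p), t ∈ A' →
      ∀ i, (x * t * x⁻¹).left i = x.left i * t.left (i - x.right.a) * (x.left i)⁻¹ := by
    intro x t ht i
    simp [ht.1, mul_assoc]
  have hconjr : ∀ (x : Big T p) (t : Big T p), t ∈ A' → (x * t * x⁻¹).right = t.right := by
    intro x t ht
    ext <;> simp [ht.1, ht.2.1] <;> ring
  haveI hA'n : A'.Normal := ⟨fun t ht x => ⟨by rw [hconjr x t ht]; exact ht.1,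
    by rw [hconjr x t ht]; exact ht.2.1, fun i => by
      rw [hconj x t ht i]; exact ‹A.Normal›.conj_mem _ (ht.2.2 _) _⟩⟩
  let κ : Multiplicative (ZMod p) →* ℂˣ :=
    { toFun := fun c => ζ ^ (Multiplicative.toAdd c).val
      map_one' := by simp
      map_mul' := fun c d => by
        rw [← pow_add, pow_eq_pow_iff_modEq, ← hζ.eq_orderOf, toAdd_mul, ZMod.val_add]
        exact Nat.mod_modEq _ _ }
  have hκ : ∀ c : ZMod p, c ≠ 0 → κ (Multiplicative.ofAdd c) ≠ 1 := fun c hc h =>
    hc ((ZMod.val_eq_zero c).1 (Nat.eq_zero_of_dvd_of_lt (hζ.dvd_of_pow_eq_one _ h) (ZMod.val_lt c)))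
  let Ψ' : A' →* ℂˣ :=
    { toFun := fun t => (∏ i, Ψ ⟨(t : Big T p).left i, t.2.2.2 i⟩) *
        κ (Multiplicative.ofAdd (t : Big T p).right.c)
      map_one' := by
        simp only [OneMemClass.coe_one, SemidirectProduct.one_left, SemidirectProduct.one_right,
          Heis.one_c, ofAdd_zero, map_one, mul_one]
        exact Finset.prod_eq_one fun i _ => map_one Ψ
      map_mul' := fun s t => by
        rw [mul_mul_mul_comm, ← Finset.prod_mul_distrib, ← map_mul κ, ← ofAdd_add]
        congr 1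
        · refine Finset.prod_congr rfl fun i _ => ?_
          rw [← map_mul]
          exact congrArg Ψ (Subtype.ext (by simp [s.2.1]))
        · exact congrArg (fun c => κ (Multiplicative.ofAdd c)) (by simp [s.2.1]) }
  have hΨ' : ∀ (t : Big T p) (h : t ∈ A'), Ψ' ⟨t, h⟩ =
      (∏ i, Ψ ⟨t.left i, h.2.2 i⟩) * κ (Multiplicative.ofAdd t.right.c) := fun _ _ => rfl
  refine ⟨Big T p, inferInstance, A', hA'n, Ψ',
    ⟨Finite.of_equiv _ SemidirectProduct.equivProd.symm, ?inv, ?pair, ?primes, ?expo, ?surj, ?emb⟩⟩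
  case inv =>
    rintro x ⟨t, ht⟩ h
    rw [hΨ', hΨ']
    congr 1
    · refine Fintype.prod_equiv (Equiv.subRight x.right.a) _ _ fun i => ?_
      refine (congrArg Ψ (Subtype.ext (hconj x t ht i))).trans
        (hG.inv (x.left i) ⟨t.left (i - x.right.a), ht.2.2 _⟩ ?_)
      exact ‹A.Normal›.conj_mem _ (ht.2.2 _) _
    · rw [hconjr x t ht]
  case pair =>
    intro g hg
    by_cases ha : g.right.a = 0
    swap
    · let x : Big T p := ⟨1, ⟨0, 1, 0⟩⟩
      have hl : (x * g * x⁻¹ * g⁻¹).left = 1 := by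
        funext i; simp [x]
      have hr : (x * g * x⁻¹ * g⁻¹).right = ⟨0, 0, -g.right.a⟩ := by
        ext <;> simp [x] <;> ring
      have hmem : x * g * x⁻¹ * g⁻¹ ∈ A' := ⟨by rw [hr], by rw [hr], fun i => by
        rw [hl]; exact A.one_mem⟩
      refine ⟨x, hmem, ?_⟩
      rw [hΨ', Finset.prod_eq_one fun i _ => (congrArg Ψ (Subtype.ext (congrFun hl i))).trans
        (map_one Ψ), one_mul, hr]
      exact hκ _ (neg_ne_zero.2 ha)
    by_cases hy : ∀ i, g.left i ∈ A
    · have hb : g.right.b ≠ 0 := fun hb => hg ⟨ha, hb, hy⟩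
      let x : Big T p := ⟨1, ⟨1, 0, 0⟩⟩
      have hl : ∀ i, (x * g * x⁻¹ * g⁻¹).left i = g.left (i - 1) * (g.left i)⁻¹ := fun i => by
        simp [x, ha]
      have hr : (x * g * x⁻¹ * g⁻¹).right = ⟨0, 0, g.right.b⟩ := by
        ext <;> simp [x, ha]
      have hmem : x * g * x⁻¹ * g⁻¹ ∈ A' := ⟨by rw [hr], by rw [hr], fun i => by
        rw [hl]; exact A.mul_mem (hy _) (A.inv_mem (hy _))⟩
      refine ⟨x, hmem, ?_⟩
      have hprod : ∏ i, Ψ ⟨(x * g * x⁻¹ * g⁻¹).left i, hmem.2.2 i⟩ = 1 := by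
        calc ∏ i, Ψ ⟨(x * g * x⁻¹ * g⁻¹).left i, hmem.2.2 i⟩
            = ∏ i, (Ψ ⟨g.left (i - 1), hy _⟩ * (Ψ ⟨g.left i, hy _⟩)⁻¹) :=
              Finset.prod_congr rfl fun i _ => by
                rw [← map_inv, ← map_mul]; exact congrArg Ψ (Subtype.ext (hl i))
          _ = 1 := by
            rw [Finset.prod_mul_distrib, Fintype.prod_equiv (Equiv.subRight (1 : ZMod p))
              (fun i => Ψ ⟨g.left (i - 1), hy _⟩) (fun i => Ψ ⟨g.left i, hy _⟩) fun i => rfl,
              Finset.prod_inv_distrib, mul_inv_cancel]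
      rw [hΨ', hprod, one_mul, hr]
      exact hκ _ hb
    · push Not at hy
      obtain ⟨i, hi⟩ := hy
      obtain ⟨u, hu, hu1⟩ := hG.pair _ hi
      let x : Big T p := ⟨Pi.mulSingle i u, 1⟩
      have hl : ∀ j, (x * g * x⁻¹ * g⁻¹).left j =
          Pi.mulSingle (M := fun _ => T) i u j * g.left j *
            (Pi.mulSingle (M := fun _ => T) i u j)⁻¹ * (g.left j)⁻¹ := fun j => by
        simp [x, ha, mul_assoc]
      have hr : (x * g * x⁻¹ * g⁻¹).right = 1 := by ext <;> simp [x]
      have hmem : x * g * x⁻¹ * g⁻¹ ∈ A' := ⟨by rw [hr]; rfl, by rw [hr]; rfl, fun j => by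
        rw [hl]
        rcases eq_or_ne j i with rfl | hj
        · rw [Pi.mulSingle_eq_same]; exact hu
        · simp [Pi.mulSingle_eq_of_ne hj]⟩
      refine ⟨x, hmem, ?_⟩
      rw [hΨ', Fintype.prod_eq_single i fun j hj => (congrArg Ψ (Subtype.ext ((hl j).trans
        (by simp [Pi.mulSingle_eq_of_ne hj])))).trans (map_one Ψ), show (x * g * x⁻¹ * g⁻¹).right.c = 0 by rw [hr]; rfl,
        ofAdd_zero, map_one, mul_one]
      intro h
      exact hu1 ((congrArg Ψ (Subtype.ext ((hl i).trans (by rw [Pi.mulSingle_eq_same])).symm)).trans h)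
  case primes =>
    intro r hr h
    have hidx : q.ker.index = p := by
      rw [Subgroup.index_ker, MonoidHom.range_eq_top.2 hq, Subgroup.card_top]
      simp
    rw [Nat.card_congr SemidirectProduct.equivProd, Nat.card_prod, Nat.card_fun, Heis.card] at h
    rw [← q.ker.card_mul_index, hidx]
    rcases (Nat.Prime.dvd_mul hr).1 h with h | h
    · exact dvd_mul_of_dvd_left (hG.primes r hr (hr.dvd_of_dvd_pow h)) _
    · exact dvd_mul_of_dvd_right (hr.dvd_of_dvd_pow h) _
  case expo =>
    obtain ⟨m, hm, hm1⟩ := hG.expo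
    refine ⟨Nat.lcm m p, ?_, fun t => ?_⟩
    · rw [Nat.squarefree_iff_prime_squarefree]
      intro r hr hd
      have hne : Nat.lcm m p ≠ 0 := Nat.lcm_ne_zero hm.ne_zero hp.out.ne_zero
      have h2 : 2 ≤ (Nat.lcm m p).factorization r := by
        rw [← pow_two] at hd
        exact (hr.pow_dvd_iff_le_factorization hne).1 hd
      rw [Nat.factorization_lcm hm.ne_zero hp.out.ne_zero, Finsupp.sup_apply] at h2
      have h3 : m.factorization r ≤ 1 := hm.natFactorization_le_one r
      have h4 : p.factorization r ≤ 1 := hp.out.squarefree.natFactorization_le_one r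
      omega
    · obtain ⟨⟨t, ht⟩, rfl⟩ : ∃ s : A', s = t := ⟨t, rfl⟩
      rw [hΨ', mul_pow, ← Finset.prod_pow]
      have hκp : κ (Multiplicative.ofAdd t.right.c) ^ Nat.lcm m p = 1 := by
        obtain ⟨k, hk⟩ := Nat.dvd_lcm_right m p
        rw [hk, pow_mul]
        show ((ζ ^ _) ^ p) ^ k = 1
        rw [← pow_mul ζ, mul_comm, pow_mul ζ, hζ.pow_eq_one, one_pow, one_pow]
      rw [hκp, mul_one]
      refine Finset.prod_eq_one fun i _ => ?_
      obtain ⟨k, hk⟩ := Nat.dvd_lcm_left m p
      rw [hk, pow_mul, hm1, one_pow]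
  case surj =>
    intro r hr h
    have hidx : q.ker.index = p := by
      rw [Subgroup.index_ker, MonoidHom.range_eq_top.2 hq, Subgroup.card_top]
      simp
    rw [← q.ker.card_mul_index, hidx] at h
    rcases (Nat.Prime.dvd_mul hr).1 h with h | h
    · obtain ⟨a, ha⟩ := hG.surj r hr h
      let t : Big T p := ⟨Pi.mulSingle 0 (a : T), 1⟩
      have ht : t ∈ A' := ⟨rfl, rfl, fun j => by
        show Pi.mulSingle (M := fun _ => T) 0 (a : T) j ∈ A
        rcases eq_or_ne j 0 with rfl | hj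
        · rw [Pi.mulSingle_eq_same]; exact a.2
        · rw [Pi.mulSingle_eq_of_ne hj]; exact A.one_mem⟩
      refine ⟨⟨t, ht⟩, ?_⟩
      rw [hΨ', Fintype.prod_eq_single 0 fun j hj => (congrArg Ψ (Subtype.ext
        (Pi.mulSingle_eq_of_ne (M := fun _ => T) hj _))).trans (map_one Ψ)]
      simp [t, ha]
    · obtain rfl := (Nat.prime_dvd_prime_iff_eq hr hp.out).1 h
      let t : Big T r := ⟨1, ⟨0, 0, 1⟩⟩
      have ht : t ∈ A' := ⟨rfl, rfl, fun _ => A.one_mem⟩
      refine ⟨⟨t, ht⟩, ?_⟩
      have h5 : ∏ i, Ψ ⟨t.left i, ht.2.2 i⟩ = 1 :=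
        Finset.prod_eq_one fun i _ => (congrArg Ψ (Subtype.ext rfl)).trans (map_one Ψ)
      rw [hΨ', h5, one_mul]
      show orderOf (ζ ^ ((1 : ZMod r)).val) = r
      rw [ZMod.val_one, pow_one, ← hζ.eq_orderOf]
  case emb =>
    obtain ⟨f, hf⟩ := hG.emb
    choose s hs using fun i : ZMod p => hq (Multiplicative.ofAdd i)
    let d : G → ZMod p := fun g => Multiplicative.toAdd (q g)
    have hd : ∀ g h, d (g * h) = d g + d h := fun g h => by simp [d]
    have hk : ∀ g i, (s i)⁻¹ * g * s (i - d g) ∈ q.ker := fun g i => by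
      rw [MonoidHom.mem_ker]
      apply Multiplicative.toAdd.injective
      simp [hs, d]
    let k : G → ZMod p → q.ker := fun g i => ⟨_, hk g i⟩
    have hkm : ∀ g h i, k (g * h) i = k g i * k h (i - d g) := fun g h i => Subtype.ext (by
      show (s i)⁻¹ * (g * h) * s (i - d (g * h)) =
        (s i)⁻¹ * g * s (i - d g) * ((s (i - d g))⁻¹ * h * s (i - d g - d h))
      rw [hd, sub_sub]
      group)
    choose l hl using fun n : q.ker => QuotientGroup.mk_surjective (f n)
    let F : G → Big T p ⧸ A' := fun g =>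
      QuotientGroup.mk ⟨fun i => l (k g i), ⟨d g, 0, 0⟩⟩
    have hFm : ∀ g h, F (g * h) = F g * F h := by
      intro g h
      rw [← QuotientGroup.mk_mul, QuotientGroup.eq]
      refine ⟨by simp [hd], by simp, fun i => ?_⟩
      have key : ∀ j, (l (k (g * h) j))⁻¹ * (l (k g j) * l (k h (j - d g))) ∈ A := fun j => by
        rw [← QuotientGroup.eq, QuotientGroup.mk_mul, hl, hl, hl, hkm, map_mul]
      simpa [hd] using key (i + d (g * h))
    refine ⟨MonoidHom.mk' F hFm, (injective_iff_map_eq_one _).2 fun g hg => ?_⟩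
    change F g = 1 at hg
    obtain ⟨h1, -, h3⟩ := (QuotientGroup.eq_one_iff _).1 hg
    have h1' : d g = 0 := h1
    have hk1 : k g 0 = 1 := hf (by rw [← hl, map_one, QuotientGroup.eq_one_iff]; exact h3 0)
    have h4 : (s 0)⁻¹ * g * s (0 - d g) = 1 := congrArg Subtype.val hk1
    rw [h1', sub_zero] at h4
    calc g = s 0 * ((s 0)⁻¹ * g * s 0) * (s 0)⁻¹ := by group
      _ = 1 := by rw [h4]; simp

/-- A nontrivial finite solvable group maps onto a group of prime order. -/
theorem exists_surj_zmod (G : Type u) [Group G] [Finite G] [Group.IsSolvable G] [Nontrivial G] :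
    ∃ (p : ℕ) (_ : Fact p.Prime) (q : G →* Multiplicative (ZMod p)),
      Function.Surjective q ∧ Nat.card q.ker < Nat.card G := by
  have hne : Nontrivial (Abelianization G) :=
    QuotientGroup.nontrivial_iff.2 (Group.IsSolvable.commutator_lt_top_of_nontrivial (G := G)).ne
  obtain ⟨B, hB⟩ := (eq_top_or_exists_le_coatom (⊥ : Subgroup (Abelianization G))).resolve_left
    bot_ne_top
  haveI : Nontrivial (Abelianization G ⧸ B) := QuotientGroup.nontrivial_iff.2 hB.1.1
  haveI : IsSimpleGroup (Abelianization G ⧸ B) := ⟨fun C _ => by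
    rcases (QuotientGroup.le_comap_mk' B C).eq_or_lt with h1 | h1
    · left
      rw [← Subgroup.map_comap_eq_self_of_surjective (QuotientGroup.mk'_surjective B) C, ← h1,
        QuotientGroup.map_mk'_self]
    · right
      rw [← Subgroup.map_comap_eq_self_of_surjective (QuotientGroup.mk'_surjective B) C,
        hB.1.2 _ h1, Subgroup.map_top_of_surjective _ (QuotientGroup.mk'_surjective B)]⟩
  have hp : (Nat.card (Abelianization G ⧸ B)).Prime := IsSimpleGroup.prime_card
  generalize hc : Nat.card (Abelianization G ⧸ B) = p at hp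
  have : Fact p.Prime := ⟨hp⟩
  obtain ⟨e⟩ : Nonempty (Abelianization G ⧸ B ≃* Multiplicative (ZMod p)) := by
    subst hc
    exact ⟨(zmodCyclicMulEquiv (isCyclic_of_prime_card rfl)).symm⟩
  obtain ⟨q, hq⟩ : ∃ q : G →* Multiplicative (ZMod p), Function.Surjective q :=
    ⟨e.toMonoidHom.comp ((QuotientGroup.mk' B).comp Abelianization.of),
      e.surjective.comp ((QuotientGroup.mk'_surjective B).comp (QuotientGroup.mk'_surjective _))⟩
  have hidx : q.ker.index = p := by
    rw [Subgroup.index_ker, MonoidHom.range_eq_top.2 hq, Subgroup.card_top]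
    simp
  refine ⟨p, this, q, hq, ?_⟩
  rw [← q.ker.card_mul_index, hidx]
  exact lt_mul_of_one_lt_right Nat.card_pos hp.one_lt

theorem hasGood_of_solvable : ∀ (n : ℕ) (G : Type u) [Group G] [Finite G] [Group.IsSolvable G],
    Nat.card G ≤ n → HasGood G := by
  intro n
  induction n using Nat.strong_induction_on with
  | _ n ih =>
  intro G _ _ _ hn
  rcases subsingleton_or_nontrivial G with h | h
  · exact hasGood_of_subsingleton
  obtain ⟨p, _, q, hq, hlt⟩ := exists_surj_zmod G
  exact hasGood_step q hq (ih _ (hlt.trans_le hn) q.ker le_rfl)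

/-- A central subgroup with a pairing carries a fully ramified character. -/
theorem exists_fully_ramified {H : Type u} [Group H] [Fintype H] (Z : Subgroup H)
    (hZ : Z ≤ Subgroup.center H) (lam : Z →* ℂˣ) (hlam : Function.Injective lam)
    (hpair : ∀ g, g ∉ Z → ∃ (x : H) (h : x * g * x⁻¹ * g⁻¹ ∈ Z), lam ⟨_, h⟩ ≠ 1) :
    Z = Subgroup.center H ∧ ∃ χ : Cfsg.IrrCharacter H,
      (∀ h : H, (χ : H → ℂ) h = (χ : H → ℂ) 1 → h = 1) ∧
      Cfsg.charDegree (χ : H → ℂ) ^ 2 = (Subgroup.center H).index := by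
  classical
  have hcen : Z = Subgroup.center H := by
    refine le_antisymm hZ fun g hg => ?_
    by_contra hgZ
    obtain ⟨x, hx, hne⟩ := hpair g hgZ
    exact hne ((congrArg lam (Subtype.ext (by
      show x * g * x⁻¹ * g⁻¹ = ((1 : Z) : H)
      rw [Subgroup.mem_center_iff.1 hg x]; simp))).trans (map_one lam))
  haveI hZn : Z.Normal := hcen ▸ inferInstance
  haveI : Fintype Z := Fintype.ofFinite _
  have hθ := H26.isIrrCharacter_hom lam
  have hinv : ∀ (g : H) (n : Z), (fun z : Z => (lam z : ℂ)) (H39.conjN g n) =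
      (fun z : Z => (lam z : ℂ)) n := by
    intro g n
    refine congrArg (fun z : Z => (lam z : ℂ)) (Subtype.ext ?_)
    have hn := Subgroup.mem_center_iff.1 (hZ n.2)
    show g * (n : H) * g⁻¹ = n
    rw [hn g]
    group
  obtain ⟨m, hm, -, hsum⟩ := H39.sum_classInner_sq_eq_index hθ hinv
  obtain ⟨χ, hχ⟩ : ∃ χ, m χ ≠ 0 := by
    by_contra hall
    push Not at hall
    simp [hall] at hsum
    exact Z.index_ne_zero_of_finite hsum.symm
  obtain ⟨e, he0, -, heq⟩ := H39.restrict_eq_smul_of_invariant χ.2 hθ hinv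
    (by rw [hm χ]; exact_mod_cast hχ)
  have hval : ∀ z : Z, χ.1 z = (e : ℂ) * lam z := fun z => by simpa using congrFun heq z
  have h1 : χ.1 1 = (e : ℂ) := by simpa using hval 1
  have hscal : ∀ (z : Z) (y : H), χ.1 (y * z) = (lam z : ℂ) * χ.1 y := by
    intro z y
    obtain ⟨w, -, hw⟩ := H39.exists_central_scalar χ (hZ z.2)
    have h2 : (e : ℂ) * lam z = w * e := by
      have := hw 1
      rw [one_mul, hval, h1] at this
      exact this
    rw [hw y, mul_right_cancel₀ (b := (e : ℂ)) (by exact_mod_cast he0) ((mul_comm _ _).trans h2).symm]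
  have hvan : ∀ g : H, g ∉ Z → χ.1 g = 0 := by
    intro g hg
    obtain ⟨x, hx, hne⟩ := hpair g hg
    have hcl : χ.1 (x * g * x⁻¹) = χ.1 g := H26.irr_isClassFunction χ _ _
    have h2 : x * g * x⁻¹ = g * ((⟨_, hx⟩ : Z) : H) := by
      show x * g * x⁻¹ = g * (x * g * x⁻¹ * g⁻¹)
      rw [Subgroup.mem_center_iff.1 (hZ hx) g]; group
    rw [h2, hscal] at hcl
    by_contra hne0
    exact hne (Units.ext (mul_right_cancel₀ hne0 (hcl.trans (one_mul _).symm)))
  have he2 : e ^ 2 = Z.index := (H39.vanish_iff_sq_eq_index χ.2 hθ heq).1 hvan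
  refine ⟨hcen, χ, fun h hh => ?_, ?_⟩
  · by_cases hhZ : h ∈ Z
    · have h2 := hval ⟨h, hhZ⟩
      rw [hh, h1] at h2
      have h3 : (lam ⟨h, hhZ⟩ : ℂ) = 1 :=
        (mul_left_cancel₀ (by exact_mod_cast he0) ((mul_one (e : ℂ)).trans h2)).symm
      exact congrArg Subtype.val (hlam ((Units.ext (by simpa using h3)).trans (map_one lam).symm))
    · rw [hvan h hhZ, h1] at hh
      exact absurd (by exact_mod_cast hh.symm) he0
  · rw [← hcen, ← he2, Cfsg.charDegree, h1]
    simp

end Cfsg.Agent.H19.Embed
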