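import Mathlib
import Cfsg.Agent.H19.Embed.RamifiedEmbed
import Cfsg.Agent.H27.Permutation
import Cfsg.Agent.H45.Gallagher
import Cfsg.Agent.H25.IndRep
import Cfsg.Agent.H27.Monomial

/-!
# Solvable groups inside monomial groups

Powers of a monomial group and its wreath products with groups of prime order are monomial.
-/

set_option autoImplicit false

open scoped ComplexConjugate

namespace Cfsg.Agent.H19.Embed

universe u

/-- Every irreducible character is induced from a linear character. -/
def IsMono (M : Type u) [Group M] [Fintype M] : Prop :=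
  ∀ χ : M → ℂ, Cfsg.IsIrrCharacter M χ →
    ∃ (H : Subgroup M) (lam : H →* ℂˣ), χ = Cfsg.indFun H (fun h => (lam h : ℂ))

/-- The extension by zero of a linear character of a subgroup. -/
noncomputable abbrev ext0 {M : Type u} [Group M] (H : Subgroup M) (lam : H →* ℂˣ) : M → ℂ :=
  Cfsg.extendByZero H (fun h => (lam h : ℂ))

lemma indFun_mul_card {M : Type u} [Group M] [Fintype M] (H : Subgroup M) (lam : H →* ℂˣ) (m : M) :
    ∑ x : M, ext0 H lam (x⁻¹ * m * x) =
      (Nat.card H : ℂ) * Cfsg.indFun H (fun h => (lam h : ℂ)) m := by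
  rw [H25.indFun_apply, mul_inv_cancel_left₀ (by exact_mod_cast Nat.card_pos.ne')]

section Power

variable {ι : Type} [Fintype ι] {M : Type u} [Group M] [Fintype M]

/-- The product of functions on the coordinates. -/
def piFun (θ : ι → M → ℂ) : (ι → M) → ℂ := fun f => ∏ i, θ i (f i)

variable [DecidableEq ι]

lemma classInner_piFun (θ φ : ι → M → ℂ) :
    Cfsg.classInner (piFun θ) (piFun φ) = ∏ i, Cfsg.classInner (θ i) (φ i) := by
  simp only [Cfsg.classInner, piFun, map_prod, ← Finset.prod_mul_distrib]
  rw [Finset.prod_mul_distrib, Finset.prod_const, Finset.card_univ, Fintype.prod_sum,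
    Nat.card_fun, Nat.card_eq_fintype_card (α := ι), Nat.cast_pow, inv_pow]

lemma isCharacter_piFun {θ : ι → M → ℂ} (h : ∀ i, Cfsg.IsCharacter M (θ i)) :
    Cfsg.IsCharacter (ι → M) (piFun θ) := by
  have key : ∀ s : Finset ι, Cfsg.IsCharacter (ι → M) (fun f => ∏ i ∈ s, θ i (f i)) := by
    intro s
    induction s using Finset.induction with
    | empty =>
      simpa using H26.isCharacter_of_irr (H26.isIrrCharacter_hom (1 : (ι → M) →* ℂˣ))
    | insert i s hi ih =>
      simp only [Finset.prod_insert hi]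
      exact H26.isCharacter_mul (H26.isCharacter_comp (h i) (Pi.evalMonoidHom (fun _ : ι => M) i)) ih
  exact key Finset.univ

lemma piFun_irr (θ : ι → Cfsg.IrrCharacter M) :
    Cfsg.IsIrrCharacter (ι → M) (piFun fun i => (θ i).1) := by
  refine H57.irr_of_char_norm_one (isCharacter_piFun fun i => H26.irr_isCharacter (θ i)) ?_
  rw [classInner_piFun]
  exact Finset.prod_eq_one fun i _ => H57.irr_inner_self (θ i).2

open scoped Classical in
lemma classInner_piFun_irr (θ φ : ι → Cfsg.IrrCharacter M) :
    Cfsg.classInner (piFun fun i => (θ i).1) (piFun fun i => (φ i).1) =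
      if θ = φ then 1 else 0 := by
  rw [classInner_piFun]
  split_ifs with h
  · subst h
    exact Finset.prod_eq_one fun i _ => H57.irr_inner_self (θ i).2
  · obtain ⟨i, hi⟩ := Function.ne_iff.1 h
    exact Finset.prod_eq_zero (Finset.mem_univ i)
      (H57.irr_inner_ne (θ i).2 (φ i).2 fun e => hi (Subtype.ext e))

/-- Every irreducible character of a power is a product. -/
lemma exists_piFun_eq {ψ : (ι → M) → ℂ} (hψ : Cfsg.IsIrrCharacter (ι → M) ψ) :
    ∃ θ : ι → Cfsg.IrrCharacter M, ψ = piFun fun i => (θ i).1 := by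
  classical
  by_contra hne
  push Not at hne
  let P : (ι → Cfsg.IrrCharacter M) → Cfsg.IrrCharacter (ι → M) := fun θ => ⟨_, piFun_irr θ⟩
  have hP : Function.Injective P := by
    intro θ φ h
    by_contra hθφ
    have h1 := classInner_piFun_irr θ φ
    rw [if_neg hθφ, show (piFun fun i => (θ i).1) = piFun fun i => (φ i).1 from
      congrArg Subtype.val h, H57.irr_inner_self (piFun_irr φ)] at h1
    exact one_ne_zero h1
  have hsum : ∑ θ, (P θ).1 1 ^ 2 = (Nat.card (ι → M) : ℂ) := by
    calc ∑ θ : ι → Cfsg.IrrCharacter M, (P θ).1 1 ^ 2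
        = ∑ θ : ι → Cfsg.IrrCharacter M, ∏ i, (θ i).1 1 ^ 2 :=
          Finset.sum_congr rfl fun θ _ => by simp [P, piFun, Finset.prod_pow]
      _ = _ := by
          rw [← Fintype.prod_sum (fun (_ : ι) (χ : Cfsg.IrrCharacter M) => χ.1 1 ^ 2),
            Finset.prod_congr rfl fun i _ => H26.sum_sq_degrees (G := M), Finset.prod_const,
            Finset.card_univ, Nat.card_fun, Nat.card_eq_fintype_card (α := ι), Nat.cast_pow]
  choose d hd using fun χ : Cfsg.IrrCharacter (ι → M) =>
    H26.exists_nat_char_one (H26.irr_isCharacter χ)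
  have hlt : ∑ θ, d (P θ) ^ 2 < ∑ χ, d χ ^ 2 := by
    rw [← Finset.sum_image (s := Finset.univ) (g := P) (f := fun χ => d χ ^ 2) fun a _ b _ h => hP h]
    refine Finset.sum_lt_sum_of_subset (Finset.subset_univ _) (Finset.mem_univ ⟨ψ, hψ⟩) ?_ ?_
      fun j _ _ => Nat.zero_le _
    · rw [Finset.mem_image]
      rintro ⟨θ, -, h⟩
      exact hne θ (congrArg Subtype.val h).symm
    · have h1 := H26.irr_one_ne_zero ⟨ψ, hψ⟩
      rw [hd ⟨ψ, hψ⟩, Nat.cast_ne_zero] at h1
      positivity
  have h2 : ((∑ θ, d (P θ) ^ 2 : ℕ) : ℂ) = ((∑ χ, d χ ^ 2 : ℕ) : ℂ) := by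
    simp only [Nat.cast_sum, Nat.cast_pow, ← hd]
    rw [hsum, H26.sum_sq_degrees]
  exact hlt.ne (by exact_mod_cast h2)

lemma prod_ext0 (H : ι → Subgroup M) (lam : ∀ i, H i →* ℂˣ) (f : ι → M)
    (h : ¬ ∀ i, f i ∈ H i) : ∏ i, ext0 (H i) (lam i) (f i) = 0 := by
  push Not at h
  obtain ⟨i, hi⟩ := h
  exact Finset.prod_eq_zero (Finset.mem_univ i) (H25.extendByZero_of_notMem _ _ hi)

lemma sum_prod_ext0 (H : ι → Subgroup M) (lam : ∀ i, H i →* ℂˣ) (f : ι → M) :
    ∑ u : ι → M, ∏ i, ext0 (H i) (lam i) ((u i)⁻¹ * f i * u i) =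
      (∏ i, (Nat.card (H i) : ℂ)) * ∏ i, Cfsg.indFun (H i) (fun h => (lam i h : ℂ)) (f i) := by
  rw [← Fintype.prod_sum (fun i x => ext0 (H i) (lam i) (x⁻¹ * f i * x)), ← Finset.prod_mul_distrib]
  exact Finset.prod_congr rfl fun i _ => indFun_mul_card _ _ _

end Power

section Wreath

variable {M : Type u} [Group M] {p : ℕ}

/-- The coordinate shift. -/
def rot : Multiplicative (ZMod p) →* MulAut (ZMod p → M) where
  toFun a :=
    { toFun := fun f i => f (i - Multiplicative.toAdd a)
      invFun := fun f i => f (i + Multiplicative.toAdd a)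
      left_inv := fun f => funext fun i => by simp
      right_inv := fun f => funext fun i => by simp
      map_mul' := fun f g => rfl }
  map_one' := MulEquiv.ext fun f => funext fun i => by simp
  map_mul' x y := MulEquiv.ext fun f => funext fun i => by
    show f (i - Multiplicative.toAdd (x * y)) = f (i - Multiplicative.toAdd x - Multiplicative.toAdd y)
    rw [toAdd_mul, sub_sub]

@[simp] lemma rot_apply (a : Multiplicative (ZMod p)) (f : ZMod p → M) (i : ZMod p) :
    rot a f i = f (i - Multiplicative.toAdd a) := rfl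

@[simp] lemma rot_symm_apply (a : Multiplicative (ZMod p)) (f : ZMod p → M) (i : ZMod p) :
    (rot a).symm f i = f (i + Multiplicative.toAdd a) := rfl

/-- The wreath product with a group of prime order. -/
abbrev Wreath (M : Type u) [Group M] (p : ℕ) : Type u :=
  (ZMod p → M) ⋊[(rot : Multiplicative (ZMod p) →* MulAut (ZMod p → M))] Multiplicative (ZMod p)

lemma conj_base (g x : Wreath M p) (hg : g.right = 1) :
    (x⁻¹ * g * x).right = 1 ∧ ∀ i, (x⁻¹ * g * x).left i =
      (x.left (i + Multiplicative.toAdd x.right))⁻¹ * g.left (i + Multiplicative.toAdd x.right) *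
        x.left (i + Multiplicative.toAdd x.right) :=
  ⟨by simp [hg], fun i => by simp [hg, mul_assoc]⟩

/-- The product subgroup, without shifts. -/
def baseSub (H : ZMod p → Subgroup M) : Subgroup (Wreath M p) where
  carrier := {w | w.right = 1 ∧ ∀ i, w.left i ∈ H i}
  one_mem' := ⟨rfl, fun _ => one_mem _⟩
  mul_mem' {s t} hs ht := ⟨by simp [hs.1, ht.1], fun i => by
    simpa [hs.1] using mul_mem (hs.2 i) (ht.2 i)⟩
  inv_mem' {t} ht := ⟨by simp [ht.1], fun i => by simpa [ht.1] using ht.2 i⟩

/-- The subgroup of all shifts over a power of a subgroup. -/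
def fullSub (H : Subgroup M) : Subgroup (Wreath M p) where
  carrier := {w | ∀ i, w.left i ∈ H}
  one_mem' _ := one_mem _
  mul_mem' {s t} hs ht i := by simpa using mul_mem (hs i) (ht _)
  inv_mem' {t} ht i := by simpa using ht _

variable [hp : Fact p.Prime]

noncomputable instance [Fintype M] : Fintype (Wreath M p) :=
  Fintype.ofEquiv _ SemidirectProduct.equivProd.symm

lemma sum_wreath [Fintype M] (F : Wreath M p → ℂ) :
    ∑ w, F w = ∑ a : Multiplicative (ZMod p), ∑ u : ZMod p → M, F ⟨u, a⟩ := by
  rw [← SemidirectProduct.equivProd.symm.sum_comp F, Fintype.sum_prod_type, Finset.sum_comm]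
  rfl

/-- Reindexing of a shifted product over all `u`. -/
lemma sum_shift [Fintype M] (a : ZMod p) (T : ZMod p → M → ℂ) :
    ∑ u : ZMod p → M, ∏ i, T i (u (i + a)) = ∑ u : ZMod p → M, ∏ i, T i (u i) :=
  Fintype.sum_equiv ((Equiv.addRight a).symm.arrowCongr (Equiv.refl M)) _ _ fun u => rfl

lemma card_baseSub [Finite M] (H : ZMod p → Subgroup M) :
    (Nat.card (baseSub H) : ℂ) = ∏ i, (Nat.card (H i) : ℂ) := by
  rw [← Nat.cast_prod, ← Nat.card_pi]
  congr 1
  exact Nat.card_congr
    { toFun := fun w i => ⟨w.1.left i, w.2.2 i⟩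
      invFun := fun f => ⟨⟨fun i => f i, 1⟩, rfl, fun i => (f i).2⟩
      left_inv := fun w => Subtype.ext (SemidirectProduct.ext rfl w.2.1.symm)
      right_inv := fun f => rfl }

lemma card_fullSub [Finite M] (H : Subgroup M) :
    (Nat.card (fullSub (p := p) H) : ℂ) = (p : ℂ) * ∏ _i : ZMod p, (Nat.card H : ℂ) := by
  rw [← Nat.cast_prod, ← Nat.card_pi, ← Nat.cast_mul]
  congr 1
  have hcp : Nat.card (Multiplicative (ZMod p)) = p := by simp
  conv_rhs => arg 1; rw [← hcp]
  rw [← Nat.card_prod]
  exact Nat.card_congr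
    { toFun := fun w => (w.1.right, fun i => ⟨w.1.left i, w.2 i⟩)
      invFun := fun t => ⟨⟨fun i => t.2 i, t.1⟩, fun i => (t.2 i).2⟩
      left_inv := fun w => rfl
      right_inv := fun t => rfl }

/-- The product of linear characters on `baseSub`. -/
noncomputable def baseLam (H : ZMod p → Subgroup M) (lam : ∀ i, H i →* ℂˣ) :
    baseSub H →* ℂˣ where
  toFun w := ∏ i, lam i ⟨w.1.left i, w.2.2 i⟩
  map_one' := Finset.prod_eq_one fun i _ => map_one (lam i)
  map_mul' s t := by
    rw [← Finset.prod_mul_distrib]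
    refine Finset.prod_congr rfl fun i _ => ?_
    rw [← map_mul]
    exact congrArg (lam i) (Subtype.ext (by simp [s.2.1]))

/-- The shift invariant product character on `fullSub`, twisted by a linear character of the shifts. -/
noncomputable def fullLam (H : Subgroup M) (lam : H →* ℂˣ) (κ : Multiplicative (ZMod p) →* ℂˣ) :
    fullSub (p := p) H →* ℂˣ where
  toFun w := (∏ i, lam ⟨w.1.left i, w.2 i⟩) * κ w.1.right
  map_one' := by
    simp only [OneMemClass.coe_one, SemidirectProduct.one_right, map_one, mul_one]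
    exact Finset.prod_eq_one fun i _ => map_one lam
  map_mul' s t := by
    rw [mul_mul_mul_comm]
    congr 1
    · rw [← Fintype.prod_equiv (Equiv.subRight (Multiplicative.toAdd s.1.right))
        (fun i => lam ⟨t.1.left (i - Multiplicative.toAdd s.1.right), t.2 _⟩)
        (fun i => lam ⟨t.1.left i, t.2 i⟩) fun i => rfl, ← Finset.prod_mul_distrib]
      refine Finset.prod_congr rfl fun i _ => ?_
      rw [← map_mul]
      rfl
    · simp

variable [Fintype M]

lemma indFun_baseSub (H : ZMod p → Subgroup M) (lam : ∀ i, H i →* ℂˣ) (g : Wreath M p)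
    (hg : g.right = 1) :
    Cfsg.indFun (baseSub H) (fun w => (baseLam H lam w : ℂ)) g =
      ∑ a : ZMod p, ∏ i, Cfsg.indFun (H i) (fun h => (lam i h : ℂ)) (g.left (i + a)) := by
  have hterm : ∀ x : Wreath M p,
      Cfsg.extendByZero (baseSub H) (fun w => (baseLam H lam w : ℂ)) (x⁻¹ * g * x) =
        ∏ i, ext0 (H i) (lam i) ((x.left (i + Multiplicative.toAdd x.right))⁻¹ *
          g.left (i + Multiplicative.toAdd x.right) * x.left (i + Multiplicative.toAdd x.right)) := by
    intro x
    obtain ⟨h1, h2⟩ := conj_base g x hg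
    simp only [← h2]
    by_cases h : ∀ i, (x⁻¹ * g * x).left i ∈ H i
    · rw [H25.extendByZero_of_mem (baseSub H) _ ⟨h1, h⟩]
      simp only [baseLam, MonoidHom.coe_mk, OneHom.coe_mk, Units.coe_prod]
      exact Finset.prod_congr rfl fun i _ =>
        (H25.extendByZero_of_mem (H i) (fun z => (lam i z : ℂ)) (h i)).symm
    · rw [H25.extendByZero_of_notMem (baseSub H) _ fun hm => h hm.2]
      exact (prod_ext0 H lam _ h).symm
  have hc : (Nat.card (baseSub H) : ℂ) ≠ 0 := by exact_mod_cast Nat.card_pos.ne'
  rw [H25.indFun_apply, Finset.sum_congr rfl fun x _ => hterm x, sum_wreath, inv_mul_eq_iff_eq_mul₀ hc,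
    card_baseSub, Finset.mul_sum]
  refine Fintype.sum_equiv Multiplicative.toAdd _ _ fun a => ?_
  rw [← sum_prod_ext0 H lam fun i => g.left (i + Multiplicative.toAdd a)]
  exact sum_shift (Multiplicative.toAdd a) fun i m =>
    ext0 (H i) (lam i) (m⁻¹ * g.left (i + Multiplicative.toAdd a) * m)

lemma indFun_baseSub_off (H : ZMod p → Subgroup M) (lam : ∀ i, H i →* ℂˣ) (g : Wreath M p)
    (hg : g.right ≠ 1) : Cfsg.indFun (baseSub H) (fun w => (baseLam H lam w : ℂ)) g = 0 := by
  refine H25.indFun_eq_zero _ _ fun x hx => hg ?_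
  simpa [mul_comm (x.right)⁻¹] using hx.1

lemma indFun_fullSub (H : Subgroup M) (lam : H →* ℂˣ) (κ : Multiplicative (ZMod p) →* ℂˣ)
    (g : Wreath M p) (hg : g.right = 1) :
    Cfsg.indFun (fullSub (p := p) H) (fun w => (fullLam H lam κ w : ℂ)) g =
      ∏ i, Cfsg.indFun H (fun h => (lam h : ℂ)) (g.left i) := by
  have hterm : ∀ x : Wreath M p,
      Cfsg.extendByZero (fullSub (p := p) H) (fun w => (fullLam H lam κ w : ℂ)) (x⁻¹ * g * x) =
        ∏ i, ext0 H lam ((x.left (i + Multiplicative.toAdd x.right))⁻¹ *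
          g.left (i + Multiplicative.toAdd x.right) * x.left (i + Multiplicative.toAdd x.right)) := by
    intro x
    obtain ⟨h1, h2⟩ := conj_base g x hg
    simp only [← h2]
    by_cases h : ∀ i, (x⁻¹ * g * x).left i ∈ H
    · rw [H25.extendByZero_of_mem (fullSub (p := p) H) _ h]
      simp only [fullLam, MonoidHom.coe_mk, OneHom.coe_mk, Units.val_mul, Units.coe_prod, h1, map_one,
        Units.val_one, mul_one]
      exact Finset.prod_congr rfl fun i _ =>
        (H25.extendByZero_of_mem H (fun z => (lam z : ℂ)) (h i)).symm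
    · rw [H25.extendByZero_of_notMem (fullSub (p := p) H) _ fun hm => h hm]
      exact (prod_ext0 (fun _ => H) (fun _ => lam) _ h).symm
  have hc : (Nat.card (fullSub (p := p) H) : ℂ) ≠ 0 := by exact_mod_cast Nat.card_pos.ne'
  rw [H25.indFun_apply, Finset.sum_congr rfl fun x _ => hterm x, sum_wreath, inv_mul_eq_iff_eq_mul₀ hc,
    card_fullSub]
  have key : ∀ a : Multiplicative (ZMod p),
      ∑ u : ZMod p → M, ∏ i, ext0 H lam ((u (i + Multiplicative.toAdd a))⁻¹ *
        g.left (i + Multiplicative.toAdd a) * u (i + Multiplicative.toAdd a)) =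
      (∏ _i : ZMod p, (Nat.card H : ℂ)) * ∏ i, Cfsg.indFun H (fun h => (lam h : ℂ)) (g.left i) := by
    intro a
    rw [← sum_prod_ext0 (fun _ => H) (fun _ => lam) g.left]
    refine Finset.sum_congr rfl fun u _ => ?_
    exact Fintype.prod_equiv (Equiv.addRight (Multiplicative.toAdd a)) _ _ fun i => rfl
  rw [Finset.sum_congr rfl fun a _ => key a, Finset.sum_const, Finset.card_univ, nsmul_eq_mul,
    Fintype.card_multiplicative, ZMod.card, mul_assoc]

open scoped Classical in
/-- A wreath product of a monomial group with a group of prime order is monomial. -/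
theorem isMono_wreath (hM : IsMono M) : IsMono (Wreath M p) := by
  have hp : p.Prime := Fact.out
  intro χ hχ
  let N : Subgroup (Wreath M p) := (SemidirectProduct.rightHom (φ := rot (M := M) (p := p))).ker
  have hNmem : ∀ w : Wreath M p, w ∈ N ↔ w.right = 1 := fun w => Iff.rfl
  let e : N ≃* (ZMod p → M) :=
    { toFun := fun n => n.1.left
      invFun := fun f => ⟨⟨f, 1⟩, rfl⟩
      left_inv := fun n => Subtype.ext (SemidirectProduct.ext rfl ((hNmem _).1 n.2).symm)
      right_inv := fun f => rfl
      map_mul' := fun s t => funext fun i => by simp [(hNmem _).1 s.2] }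
  have := Fintype.ofFinite N
  have hNcard : (Nat.card N : ℂ) = ∏ _i : ZMod p, (Nat.card M : ℂ) := by
    rw [Nat.card_congr e.toEquiv, Nat.card_pi, Nat.cast_prod]
  have hχc := H26.irr_isClassFunction (⟨χ, hχ⟩ : Cfsg.IrrCharacter _)
  have hres := H26.isCharacter_comp (H26.isCharacter_of_irr hχ) N.subtype
  obtain ⟨c, hc, hce⟩ := H26.exists_nat_coeffs hres
  obtain ⟨ψ, hψc⟩ : ∃ ψ, c ψ ≠ 0 := by
    by_contra h
    push Not at h
    have h1 := congrFun hce 1
    simp [h] at h1
    exact H26.irr_one_ne_zero (⟨χ, hχ⟩ : Cfsg.IrrCharacter _) h1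
  obtain ⟨θ, hθ⟩ := exists_piFun_eq (H56.isIrrCharacter_comp_equiv ψ.2 e.symm)
  have hψval : ∀ n : N, ψ.1 n = ∏ i, (θ i).1 (n.1.left i) := fun n => by
    have h := congrFun hθ (e n)
    simp only [MulEquiv.symm_apply_apply] at h
    exact h
  choose H lam hlam using fun i => hM (θ i).1 (θ i).2
  -- the induced character of the constituent
  have hind : Cfsg.indFun N ψ.1 = Cfsg.indFun (baseSub H) (fun w => (baseLam H lam w : ℂ)) := by
    funext g
    by_cases hg : g.right = 1
    · rw [indFun_baseSub H lam g hg,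
        show g = ((⟨g, hg⟩ : N) : Wreath M p) from rfl, H56.indFun_normal_apply, inv_mul_eq_iff_eq_mul₀
          (by exact_mod_cast Nat.card_pos.ne'), sum_wreath, hNcard, Finset.mul_sum]
      refine Fintype.sum_equiv (Multiplicative.toAdd.trans (Equiv.neg (ZMod p))) _ _ fun a => ?_
      rw [← Finset.prod_mul_distrib]
      calc ∑ u : ZMod p → M, H56.twist N ψ.1 ⟨u, a⟩ ⟨g, hg⟩
          = ∑ u : ZMod p → M, ∏ i, (θ i).1 (g.left (i - Multiplicative.toAdd a)) := by
            refine Finset.sum_congr rfl fun u _ => ?_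
            rw [H56.twist, hψval]
            refine Finset.prod_congr rfl fun i _ => ?_
            have : ((⟨u, a⟩ : Wreath M p) * g * (⟨u, a⟩ : Wreath M p)⁻¹).left i =
                u i * g.left (i - Multiplicative.toAdd a) * (u i)⁻¹ := by simp [hg, mul_assoc]
            rw [this]
            exact H26.irr_isClassFunction (θ i) _ _
        _ = _ := by
            rw [Finset.sum_const, Finset.card_univ, Fintype.card_fun, nsmul_eq_mul,
              ← Nat.card_eq_fintype_card, Nat.cast_pow, Finset.prod_mul_distrib, Finset.prod_const,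
              Finset.card_univ]
            congr 1
            refine Finset.prod_congr rfl fun i _ => ?_
            rw [← hlam i]
            simp [sub_eq_add_neg]
    · rw [indFun_baseSub_off H lam g hg]
      refine H25.indFun_eq_zero _ _ fun x hx => hg ?_
      have hn : (SemidirectProduct.rightHom (φ := rot (M := M) (p := p))).ker.Normal := inferInstance
      have := hn.conj_mem _ hx x
      simpa [mul_assoc] using (hNmem _).1 this
  have hne : Cfsg.classInner (Cfsg.indFun N ψ.1) χ ≠ 0 := by
    rw [H25.classInner_indFun_left N ψ.1 χ hχc, ← H25.conj_classInner]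
    rw [show Cfsg.classInner (fun n : N => χ n) ψ.1 = c ψ from hc ψ, Complex.conj_natCast]
    exact_mod_cast hψc
  have hclass : Cfsg.IsCharacter _ (Cfsg.indFun N ψ.1) :=
    H25.isCharacter_indFun N (H26.isCharacter_of_irr ψ.2)
  by_cases hconst : ∀ i, θ i = θ 0
  · -- all factors equal: the character extends
    obtain ⟨ζ, hζ⟩ : ∃ ζ : ℂˣ, IsPrimitiveRoot ζ p := by
      have h := Complex.isPrimitiveRoot_exp p hp.ne_zero
      exact ⟨(h.isUnit hp.ne_zero).unit, IsPrimitiveRoot.coe_units_iff.1 (by simpa using h)⟩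
    let κ : Multiplicative (ZMod p) →* ℂˣ :=
      { toFun := fun a => ζ ^ (Multiplicative.toAdd a).val
        map_one' := by simp
        map_mul' := fun a b => by
          rw [← pow_add, pow_eq_pow_iff_modEq, ← hζ.eq_orderOf, toAdd_mul, ZMod.val_add]
          exact Nat.mod_modEq _ _ }
    let Φ : ℕ → Wreath M p → ℂ := fun j =>
      Cfsg.indFun (fullSub (p := p) (H 0)) (fun w => (fullLam (H 0) (lam 0) (κ ^ j) w : ℂ))
    have hΦres : ∀ j (n : N), Φ j n = ψ.1 n := fun j n => by
      rw [hψval]
      refine (indFun_fullSub (H 0) (lam 0) (κ ^ j) n.1 ((hNmem _).1 n.2)).trans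
        (Finset.prod_congr rfl fun i _ => ?_)
      rw [hconst i, ← hlam 0]
    have hΦirr : ∀ j, Cfsg.IsIrrCharacter _ (Φ j) := fun j =>
      H45.isIrrCharacter_of_restrict N
        (H25.isCharacter_indFun _ (H26.isCharacter_of_irr (H26.isIrrCharacter_hom _)))
        (by rw [show (fun n : N => Φ j n) = ψ.1 from funext (hΦres j)]; exact ψ.2)
    have hsum : ∑ j ∈ Finset.range p, Φ j = Cfsg.indFun N ψ.1 := by
      funext g
      rw [Finset.sum_apply]
      by_cases hg : g.right = 1
      · rw [Finset.sum_congr rfl fun j _ => hΦres j ⟨g, hg⟩, Finset.sum_const, Finset.card_range,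
          hind, indFun_baseSub H lam g hg]
        have h1 : ∀ a : ZMod p, ∏ i, Cfsg.indFun (H i) (fun h => (lam i h : ℂ)) (g.left (i + a)) =
            ψ.1 ⟨g, hg⟩ := fun a => by
          rw [hψval]
          refine Fintype.prod_equiv (Equiv.addRight a) _ _ fun i => ?_
          rw [← hlam i, hconst i, Equiv.coe_addRight, hconst (i + a)]
        rw [Finset.sum_congr rfl fun a _ => h1 a, Finset.sum_const, Finset.card_univ, ZMod.card]
      · rw [hind, indFun_baseSub_off H lam g hg]
        simp only [Φ, H25.indFun_apply, ← Finset.mul_sum]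
        rw [Finset.sum_comm, Finset.sum_eq_zero, mul_zero]
        intro x _
        by_cases hm : x⁻¹ * g * x ∈ fullSub (p := p) (H 0)
        · simp only [H25.extendByZero_of_mem _ _ hm, fullLam, MonoidHom.coe_mk, OneHom.coe_mk,
            Units.val_mul, MonoidHom.pow_apply, Units.val_pow_eq_pow_val, ← Finset.mul_sum]
          have hr : (x⁻¹ * g * x).right = g.right := by simp [mul_comm (x.right)⁻¹]
          rw [hr]
          have hne1 : (κ g.right : ℂ) ≠ 1 := fun h => hg (by
            have h2 : ζ ^ (Multiplicative.toAdd g.right).val = 1 := Units.ext h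
            have := Nat.eq_zero_of_dvd_of_lt (hζ.dvd_of_pow_eq_one _ h2) (ZMod.val_lt _)
            exact Multiplicative.toAdd.injective ((ZMod.val_eq_zero _).1 this))
          have hpow : (κ g.right : ℂ) ^ p = 1 := by
            rw [← Units.val_pow_eq_pow_val, show κ g.right ^ p = 1 from by
              show (ζ ^ _) ^ p = 1
              rw [← pow_mul, mul_comm, pow_mul, hζ.pow_eq_one, one_pow], Units.val_one]
          rw [geom_sum_eq hne1, hpow, sub_self, zero_div, mul_zero]
        · exact Finset.sum_eq_zero fun j _ => H25.extendByZero_of_notMem _ _ hm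
    rw [← hsum, H26.classInner_sum_left] at hne
    obtain ⟨j, -, hj⟩ := Finset.exists_ne_zero_of_sum_ne_zero hne
    refine ⟨fullSub (p := p) (H 0), fullLam (H 0) (lam 0) (κ ^ j), ?_⟩
    by_contra hχΦ
    exact hj (H57.irr_inner_ne (hΦirr j) hχ (Ne.symm hχΦ))
  · -- distinct factors: the induced character is irreducible
    have hirr : Cfsg.IsIrrCharacter _ (Cfsg.indFun N ψ.1) := by
      refine H57.irr_of_char_norm_one hclass ?_
      rw [H56.classInner_indFun_indFun, inv_mul_eq_one₀ (by exact_mod_cast Nat.card_pos.ne'), sum_wreath,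
        Finset.sum_eq_single 1]
      · rw [Finset.sum_congr rfl (g := fun _ => (1 : ℂ)) fun u _ => ?_, Finset.sum_const, Finset.card_univ,
          nsmul_eq_mul, mul_one, Nat.card_congr e.toEquiv, Nat.card_eq_fintype_card]
        have : H56.twist N ψ.1 ⟨u, 1⟩ = ψ.1 := funext fun n => by
          rw [H56.twist, hψval, hψval]
          refine Finset.prod_congr rfl fun i _ => ?_
          have : ((⟨u, 1⟩ : Wreath M p) * n.1 * (⟨u, 1⟩ : Wreath M p)⁻¹).left i =
              u i * n.1.left i * (u i)⁻¹ := by simp [(hNmem _).1 n.2, mul_assoc]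
          rw [this]
          exact H26.irr_isClassFunction (θ i) _ _
        rw [this]
        exact H57.irr_inner_self ψ.2
      · intro a _ ha
        refine Finset.sum_eq_zero fun u _ => ?_
        have htw : H56.twist N ψ.1 ⟨u, a⟩ =
            fun n => piFun (fun i => (θ (i + Multiplicative.toAdd a)).1) (e n) := funext fun n => by
          rw [H56.twist, hψval]
          refine (Finset.prod_congr rfl fun i _ => ?_).trans (Fintype.prod_equiv
            (Equiv.subRight (Multiplicative.toAdd a))
            (fun i => (θ i).1 (n.1.left (i - Multiplicative.toAdd a))) _ fun i => by simp [e])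
          have : ((⟨u, a⟩ : Wreath M p) * n.1 * (⟨u, a⟩ : Wreath M p)⁻¹).left i =
              u i * n.1.left (i - Multiplicative.toAdd a) * (u i)⁻¹ := by
            simp [(hNmem _).1 n.2, mul_assoc]
          rw [this]
          exact H26.irr_isClassFunction (θ i) _ _
        rw [htw]
        have hψ' : ψ.1 = fun n => piFun (fun i => (θ i).1) (e n) := funext fun n => hψval n
        rw [hψ', H43.classInner_congr e, classInner_piFun_irr, if_neg]
        intro h
        apply hconst
        have hper : ∀ (k : ℕ) i, θ (i + k * Multiplicative.toAdd a) = θ i := by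
          intro k
          induction k with
          | zero => simp
          | succ k ih => intro i; rw [Nat.cast_succ, add_mul, one_mul, ← add_assoc, ← congrFun h _, ih]
        intro i
        have ha0 : Multiplicative.toAdd a ≠ 0 := fun h0 => ha (Multiplicative.toAdd.injective h0)
        have := hper (i * (Multiplicative.toAdd a)⁻¹).val 0
        rwa [ZMod.natCast_zmod_val, zero_add, inv_mul_cancel_right₀ ha0] at this
      · simp
    refine ⟨baseSub H, baseLam H lam, ?_⟩
    rw [← hind]
    by_contra hχΦ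
    exact hne (H57.irr_inner_ne hirr hχ (Ne.symm hχΦ))

/-- A solvable group embeds into a monomial group. -/
theorem exists_mono_embedding : ∀ (n : ℕ) (G : Type u) [Group G] [Finite G] [Group.IsSolvable G],
    Nat.card G ≤ n → ∃ (M : Type u) (_ : Group M) (_ : Fintype M),
      IsMono M ∧ ∃ f : G →* M, Function.Injective f := by
  intro n
  induction n using Nat.strong_induction_on with
  | _ n ih =>
  intro G _ _ _ hn
  rcases subsingleton_or_nontrivial G with h | h
  · refine ⟨PUnit, inferInstance, inferInstance, fun χ hχ => ?_,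
      ⟨1, fun a b _ => Subsingleton.elim a b⟩⟩
    obtain ⟨d, ρ, hρ, rfl⟩ := hχ
    have hc := H27.exists_hom_of_commutative_image ρ fun a b => by
      rw [Subsingleton.elim a b]
    obtain ⟨-, μ, hμ⟩ := hc
    refine ⟨⊤, μ.comp (⊤ : Subgroup PUnit).subtype, ?_⟩
    rw [funext hμ]
    exact (H39.indFun_top (fun g => (μ g : ℂ)) fun g x => by
      rw [Subsingleton.elim (x * g * x⁻¹) g]).symm
  obtain ⟨p, _, q, hq, hlt⟩ := exists_surj_zmod G
  obtain ⟨M, _, _, hM, f, hf⟩ := ih _ (hlt.trans_le hn) q.ker le_rfl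
  choose s hs using fun i : ZMod p => hq (Multiplicative.ofAdd i)
  let d : G → ZMod p := fun g => Multiplicative.toAdd (q g)
  have hd : ∀ g h, d (g * h) = d g + d h := fun g h => by simp [d]
  have hk : ∀ g i, (s i)⁻¹ * g * s (i - d g) ∈ q.ker := fun g i => by
    rw [MonoidHom.mem_ker]
    apply Multiplicative.toAdd.injective
    simp [hs, d]
  let k : G → ZMod p → q.ker := fun g i => ⟨_, hk g i⟩
  have hkm : ∀ g h i, k (g * h) i = k g i * k h (i - d g) := fun g h i => Subtype.ext (by
    show (s i)⁻¹ * (g * h) * s (i - d (g * h)) =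
      (s i)⁻¹ * g * s (i - d g) * ((s (i - d g))⁻¹ * h * s (i - d g - d h))
    rw [hd, sub_sub]
    group)
  refine ⟨Wreath M p, inferInstance, inferInstance, isMono_wreath hM,
    MonoidHom.mk' (fun g => (⟨fun i => f (k g i), q g⟩ : Wreath M p)) fun g h => ?_,
    (injective_iff_map_eq_one _).2 fun g hg => ?_⟩
  · ext i
    · simp [hkm, d]
    · simp
  · have h1 : q g = 1 := congrArg SemidirectProduct.right hg
    have hk0 : k g 0 = 1 := hf ((congrFun (congrArg SemidirectProduct.left hg) 0).trans (map_one f).symm)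
    have h4 : (s 0)⁻¹ * g * s (0 - d g) = 1 := congrArg Subtype.val hk0
    rw [show d g = 0 by simp [d, h1], sub_zero] at h4
    calc g = s 0 * ((s 0)⁻¹ * g * s 0) * (s 0)⁻¹ := by group
      _ = 1 := by rw [h4]; simp

end Wreath

end Cfsg.Agent.H19.Embed
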